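import Mathlib
import Cfsg.Prelude.Def_KGroupFacts

/-!
Stem extensions: commutator bounds from two generators, and constructors for `HasCyclicSchurMultiplier`.
-/

namespace CfsgLib.StemExt

set_option linter.style.haveILetI false

universe u v

open Cfsg

variable {Γ : Type*} [Group Γ]

/-- If `Γ` is generated by two elements modulo a central subgroup, the commutator subgroup lies in any
normal subgroup containing their commutator. -/
theorem commutator_le_of_generators {Z N : Subgroup Γ} [hN : N.Normal] (hZ : Z ≤ Subgroup.center Γ)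
    (x y : Γ) (hgen : Subgroup.closure {x, y} ⊔ Z = ⊤) (hxy : x * y * x⁻¹ * y⁻¹ ∈ N) :
    commutator Γ ≤ N := by
  rw [commutator_eq_closure, Subgroup.closure_le]
  have hcomm : ∀ a b : Γ, a * b * a⁻¹ * b⁻¹ ∈ N := by
    have key : Subgroup.closure (({x, y} : Set Γ) ∪ (Z : Set Γ)) = ⊤ := by
      rw [Subgroup.closure_union, Subgroup.closure_eq, hgen]
    have hq : ∀ a ∈ (({x, y} : Set Γ) ∪ (Z : Set Γ)), ∀ b ∈ (({x, y} : Set Γ) ∪ (Z : Set Γ)),
        (QuotientGroup.mk a : Γ ⧸ N) * QuotientGroup.mk b = QuotientGroup.mk b * QuotientGroup.mk a := by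
      have hbase : (QuotientGroup.mk x : Γ ⧸ N) * QuotientGroup.mk y =
          QuotientGroup.mk y * QuotientGroup.mk x := by
        rw [← QuotientGroup.eq_one_iff] at hxy
        simpa [mul_inv_eq_one, mul_inv_eq_iff_eq_mul] using hxy
      have hz : ∀ z ∈ (Z : Set Γ), ∀ b : Γ, (QuotientGroup.mk z : Γ ⧸ N) * QuotientGroup.mk b =
          QuotientGroup.mk b * QuotientGroup.mk z := fun z hz b => by
        rw [← QuotientGroup.mk_mul, ← QuotientGroup.mk_mul, Subgroup.mem_center_iff.mp (hZ hz) b]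
      rintro a (ha | ha) b hb
      · rcases hb with hb | hb
        · rcases ha with rfl | rfl <;> rcases hb with rfl | rfl
          · rfl
          · exact hbase
          · exact hbase.symm
          · rfl
        · exact (hz b hb a).symm
      · exact hz a ha b
    intro a b
    have ha : a ∈ Subgroup.closure (({x, y} : Set Γ) ∪ (Z : Set Γ)) := key ▸ Subgroup.mem_top a
    have hb : b ∈ Subgroup.closure (({x, y} : Set Γ) ∪ (Z : Set Γ)) := key ▸ Subgroup.mem_top b
    haveI := Subgroup.isMulCommutative_closure (k := (QuotientGroup.mk' N) '' (({x, y} : Set Γ) ∪ (Z : Set Γ)))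
      (by rintro _ ⟨a, ha, rfl⟩ _ ⟨b, hb, rfl⟩; exact hq a ha b hb)
    have ha' := Subgroup.mem_map_of_mem (QuotientGroup.mk' N) ha
    have hb' := Subgroup.mem_map_of_mem (QuotientGroup.mk' N) hb
    rw [MonoidHom.map_closure] at ha' hb'
    have h := setLike_mul_comm ha' hb'
    rw [← QuotientGroup.eq_one_iff]
    simp only [QuotientGroup.mk'_apply] at h
    simp [h]
  rintro _ ⟨a, b, rfl⟩
  exact hcomm a b

/-- Generators of a quotient by a central kernel generate together with the kernel. -/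
theorem closure_lift_sup_ker {G : Type*} [Group G] (σ : Γ →* G) (x y : Γ)
    (hgen : Subgroup.closure {σ x, σ y} = ⊤) : Subgroup.closure {x, y} ⊔ σ.ker = ⊤ := by
  rw [← Subgroup.comap_map_eq, MonoidHom.map_closure, Set.image_pair, hgen, Subgroup.comap_top]

/-- The dihedral-type situation: `y` inverts `x` modulo the centre and fixes `x ^ n`. -/
theorem inverting_pair_bound {G : Type*} [Group G] {σ : Γ →* G} (hker : σ.ker ≤ Subgroup.center Γ)
    {x y z : Γ} (hgen : Subgroup.closure {σ x, σ y} = ⊤) (hz : z ∈ σ.ker)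
    (hconj : y * x * y⁻¹ = x⁻¹ * z) {n : ℕ} (hfix : y * x ^ n * y⁻¹ = x ^ n) :
    commutator Γ ≤ Subgroup.zpowers (x * x * z⁻¹) ∧ (x * x * z⁻¹) ^ n = 1 := by
  have hzc : ∀ g : Γ, Commute z g := fun g => (Subgroup.mem_center_iff.mp (hker hz) g).symm
  constructor
  · set w := x * x * z⁻¹ with hw
    have hxw : x * w * x⁻¹ = w := by
      rw [hw]
      have := (hzc x).inv_left.eq
      calc x * (x * x * z⁻¹) * x⁻¹ = x * x * (x * z⁻¹) * x⁻¹ := by group
        _ = x * x * (z⁻¹ * x) * x⁻¹ := by rw [this]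
        _ = x * x * z⁻¹ := by group
    have hyz : y * z * y⁻¹ = z := by rw [← (hzc y).eq]; group
    have hyw : y * w * y⁻¹ = w⁻¹ := by
      rw [hw]
      calc y * (x * x * z⁻¹) * y⁻¹ = (y * x * y⁻¹) * (y * x * y⁻¹) * (y * z * y⁻¹)⁻¹ := by group
        _ = x⁻¹ * z * (x⁻¹ * z) * z⁻¹ := by rw [hconj, hyz]
        _ = x⁻¹ * (z * x⁻¹) := by group
        _ = x⁻¹ * (x⁻¹ * z) := by rw [(hzc x⁻¹).eq]
        _ = (z⁻¹ * (x * x))⁻¹ := by group
        _ = (x * x * z⁻¹)⁻¹ := by rw [((hzc (x * x)).inv_left).eq]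
    have hN : (Subgroup.zpowers w).Normal := by
      rw [← Subgroup.normalizer_eq_top_iff, eq_top_iff, ← closure_lift_sup_ker σ x y hgen]
      refine sup_le ?_ ?_
      · rw [Subgroup.closure_le]
        intro g hg
        have key : ∀ g : Γ, (g * w * g⁻¹ = w ∨ g * w * g⁻¹ = w⁻¹) →
            g ∈ Subgroup.normalizer (Subgroup.zpowers w : Set Γ) := by
          intro g hg
          rw [Subgroup.mem_normalizer_iff_map_conj_eq, MonoidHom.map_zpowers]
          rcases hg with h | h
          · simp [MulAut.conj_apply, h]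
          · simp [MulAut.conj_apply, h, Subgroup.zpowers_inv]
        rcases hg with rfl | rfl
        · exact key _ (Or.inl hxw)
        · exact key _ (Or.inr hyw)
      · exact hker.trans (Subgroup.center_le_normalizer _)
    refine commutator_le_of_generators (Z := σ.ker) hker x y (closure_lift_sup_ker σ x y hgen) ?_
    have hc : x * y * x⁻¹ * y⁻¹ = w := by
      calc x * y * x⁻¹ * y⁻¹ = x * (y * x * y⁻¹)⁻¹ := by group
        _ = x * (z⁻¹ * x) := by rw [hconj]; group
        _ = x * (x * z⁻¹) := by rw [((hzc x).inv_left).eq]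
        _ = w := by rw [hw]; group
    rw [hc]
    exact Subgroup.mem_zpowers w
  · have h1 : x ^ n = x⁻¹ ^ n * z ^ n := by
      rw [← (hzc x⁻¹).symm.mul_pow, ← hconj, conj_pow]
      exact hfix.symm
    have h2 : Commute (x * x) z⁻¹ := ((hzc (x * x)).inv_left).symm
    rw [h2.mul_pow, (Commute.refl x).mul_pow]
    nth_rewrite 1 [h1]
    have h3 : x⁻¹ ^ n * z ^ n * x ^ n = z ^ n := by
      rw [mul_assoc, ((hzc x).pow_pow n n).eq, ← mul_assoc, inv_pow, inv_mul_cancel, one_mul]
    rw [h3, inv_pow, mul_inv_cancel]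

/-- A homomorphism from `Multiplicative (ZMod n)` onto a cyclic group killed by `n`. -/
theorem exists_surjective_of_zmod {K : Type*} [Group K] {n : ℕ} (g : K)
    (hg : ∀ k : K, k ∈ Subgroup.zpowers g) (hn : g ^ n = 1) :
    ∃ π : Multiplicative (ZMod n) →* K, Function.Surjective π := by
  let f : { f : ℤ →+ Additive K // f n = 0 } :=
    ⟨zmultiplesHom (Additive K) (Additive.ofMul g), by
      simp only [zmultiplesHom_apply, natCast_zsmul, ← ofMul_pow, hn, ofMul_one]⟩
  refine ⟨AddMonoidHom.toMultiplicativeLeft (ZMod.lift n f), fun k => ?_⟩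
  obtain ⟨i, rfl⟩ := Subgroup.mem_zpowers_iff.mp (hg k)
  refine ⟨Multiplicative.ofAdd (i : ZMod n), ?_⟩
  show Additive.toMul (ZMod.lift n f (i : ZMod n)) = g ^ i
  rw [ZMod.lift_coe]
  rfl

/-- Constructor for a trivial multiplier. -/
theorem hasCyclicSchurMultiplier_one {G : Type u} [Group G] [Finite G]
    (h : ∀ (Δ : Type u) [Group Δ] [Finite Δ] (σ : Δ →* G), IsStemExtension σ → σ.ker = ⊥) :
    HasCyclicSchurMultiplier G 1 := by
  refine ⟨⟨G, inferInstance, inferInstance, MonoidHom.id G,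
    ⟨Function.surjective_id, by simp [MonoidHom.ker_id], by simp [MonoidHom.ker_id]⟩, ?_⟩, ?_⟩
  · haveI : Subsingleton (MonoidHom.id G).ker := by rw [MonoidHom.ker_id]; infer_instance
    haveI : Unique (MonoidHom.id G).ker := uniqueOfSubsingleton 1
    exact ⟨MulEquiv.ofUnique⟩
  · intro Δ _ _ σ hσ
    refine ⟨1, fun k => ⟨1, ?_⟩⟩
    have := k.2
    simp only [h Δ σ hσ, Subgroup.mem_bot] at this
    exact Subtype.ext this.symm

/-- With a trivial multiplier every stem extension is injective. -/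
theorem ker_eq_bot_of_hasCyclicSchurMultiplier_one {G : Type u} [Group G]
    (h : HasCyclicSchurMultiplier G 1) {Δ : Type u} [Group Δ] [Finite Δ] (σ : Δ →* G)
    (hσ : IsStemExtension σ) : σ.ker = ⊥ := by
  obtain ⟨π, hπ⟩ := h.2 Δ σ hσ
  haveI : Subsingleton σ.ker := hπ.subsingleton
  exact Subgroup.eq_bot_of_subsingleton _

/-- Constructor for a cyclic multiplier of order `n`. -/
theorem hasCyclicSchurMultiplier_of_cyclic {G : Type u} [Group G] {n : ℕ} {Δ₀ : Type u} [Group Δ₀]
    [Finite Δ₀] (σ₀ : Δ₀ →* G) (hσ₀ : IsStemExtension σ₀) (hcard : Nat.card σ₀.ker = n)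
    (hbound : ∀ (Δ : Type u) [Group Δ] [Finite Δ] (σ : Δ →* G), IsStemExtension σ →
      ∃ g : σ.ker, g ^ n = 1 ∧ ∀ k : σ.ker, k ∈ Subgroup.zpowers g) :
    HasCyclicSchurMultiplier G n := by
  refine ⟨⟨Δ₀, inferInstance, inferInstance, σ₀, hσ₀, ?_⟩, ?_⟩
  · obtain ⟨g, hgn, hg⟩ := hbound Δ₀ σ₀ hσ₀
    haveI : IsCyclic σ₀.ker := ⟨⟨g, hg⟩⟩
    exact ⟨(zmodCyclicMulEquiv (inferInstance : IsCyclic σ₀.ker)).symm.trans
      (MulEquiv.cast (M := fun m => Multiplicative (ZMod m)) hcard)⟩
  · intro Δ _ _ σ hσ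
    obtain ⟨g, hgn, hg⟩ := hbound Δ σ hσ
    exact exists_surjective_of_zmod g hg hgn

/-- A kernel inside `zpowers w` whose exponents are multiples of `d`. -/
theorem ker_generated_of_le_zpowers {G : Type*} [Group G] {σ : Γ →* G} {w : Γ}
    (hle : σ.ker ≤ Subgroup.zpowers w) (d : ℕ)
    (hd : ∀ k : ℤ, w ^ k ∈ σ.ker → (d : ℤ) ∣ k) :
    σ.ker ≤ Subgroup.zpowers (w ^ d) := by
  intro g hg
  obtain ⟨k, rfl⟩ := Subgroup.mem_zpowers_iff.mp (hle hg)
  obtain ⟨m, rfl⟩ := hd k hg
  rw [zpow_mul, zpow_natCast]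
  exact Subgroup.zpow_mem_zpowers _ m

end CfsgLib.StemExt
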