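import Cfsg.Agent.Lib.StemExt.Basic
import Cfsg.Agent.Lib.OmegaSevenMult.Combine

/-!
A multiplier of prime order from a bound and one cover.
-/

set_option autoImplicit false
set_option linter.style.haveILetI false

open scoped commutatorElement

namespace CfsgLib.StemExt

universe u

open Cfsg

variable {G : Type u} [Group G]

theorem perfect_of_stem (hG : commutator G = ⊤) {Δ : Type u} [Group Δ] {τ : Δ →* G}
    (hτ : IsStemExtension τ) : commutator Δ = ⊤ := by
  obtain ⟨hs, -, hk⟩ := hτ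
  rw [← sup_of_le_left hk, ← Subgroup.comap_map_eq, commutator_def, Subgroup.map_commutator,
    Subgroup.map_top_of_surjective τ hs, ← commutator_def, hG, Subgroup.comap_top]

/-- Two stem extensions of a perfect group are dominated by a third. -/
theorem exists_dominating (hG : commutator G = ⊤) {Γ₁ Γ₂ : Type u} [Group Γ₁] [Finite Γ₁]
    [Group Γ₂] [Finite Γ₂] {σ₁ : Γ₁ →* G} {σ₂ : Γ₂ →* G} (h₁ : IsStemExtension σ₁)
    (h₂ : IsStemExtension σ₂) :
    ∃ (D : Type u) (_ : Group D) (_ : Finite D) (τ : D →* G), IsStemExtension τ ∧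
      Nat.card σ₁.ker ∣ Nat.card τ.ker ∧ Nat.card σ₂.ker ∣ Nat.card τ.ker := by
  classical
  let P : Subgroup (Γ₁ × Γ₂) :=
    { carrier := {x | σ₁ x.1 = σ₂ x.2}
      one_mem' := by simp
      mul_mem' := fun {x y} (a : σ₁ x.1 = σ₂ x.2) (b : σ₁ y.1 = σ₂ y.2) => by
        show σ₁ (x.1 * y.1) = σ₂ (x.2 * y.2)
        rw [map_mul, map_mul, a, b]
      inv_mem' := fun {x} (a : σ₁ x.1 = σ₂ x.2) => by
        show σ₁ x.1⁻¹ = σ₂ x.2⁻¹
        rw [map_inv, map_inv, a] }
  let q₁ : P →* Γ₁ := (MonoidHom.fst Γ₁ Γ₂).comp P.subtype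
  let q₂ : P →* Γ₂ := (MonoidHom.snd Γ₁ Γ₂).comp P.subtype
  let τ : P →* G := σ₁.comp q₁
  have hq₁ : Function.Surjective q₁ := fun a => by
    obtain ⟨b, hb⟩ := h₂.1 (σ₁ a)
    exact ⟨⟨(a, b), hb.symm⟩, rfl⟩
  have hq₂ : Function.Surjective q₂ := fun b => by
    obtain ⟨a, ha⟩ := h₁.1 (σ₂ b)
    exact ⟨⟨(a, b), ha⟩, rfl⟩
  have hτ₂ : τ = σ₂.comp q₂ := MonoidHom.ext fun x => x.2
  have hτc : τ.ker ≤ Subgroup.center P := fun x hx => by
    have a : x.1.1 ∈ σ₁.ker := hx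
    have b : x.1.2 ∈ σ₂.ker := by rw [hτ₂] at hx; exact hx
    exact Subgroup.mem_center_iff.2 fun y => Subtype.ext (Prod.ext
      (Subgroup.mem_center_iff.1 (h₁.2.1 a) _) (Subgroup.mem_center_iff.1 (h₂.2.1 b) _))
  obtain ⟨hD, hDs⟩ := OmegaSevenMult.derived_perfect (τ := τ) (h₁.1.comp hq₁) hτc hG
  set D := commutator P with hDdef
  set τD := τ.comp D.subtype with hτD
  have hDc : τD.ker ≤ Subgroup.center D := fun x hx => Subgroup.mem_center_iff.2 fun y =>
    Subtype.ext (Subgroup.mem_center_iff.1 (hτc hx) y.1)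
  have hsur : ∀ {Γ : Type u} [Group Γ] (σ : Γ →* G) (q : P →* Γ), Function.Surjective q →
      commutator Γ = ⊤ → τ = σ.comp q → Nat.card σ.ker ∣ Nat.card τD.ker := by
    intro Γ _ σ q hq hΓ e
    have hqD : D.map q = ⊤ := by
      rw [hDdef, commutator_def, Subgroup.map_commutator, Subgroup.map_top_of_surjective q hq,
        ← commutator_def, hΓ]
    refine Subgroup.card_dvd_of_surjective
      (((q.comp D.subtype).comp τD.ker.subtype).codRestrict σ.ker fun x => ?_) fun a => ?_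
    · have hx : τ x.1.1 = 1 := x.2
      rw [e] at hx
      exact hx
    · obtain ⟨d, hd, ed⟩ := Subgroup.mem_map.1 (hqD ▸ Subgroup.mem_top a.1)
      refine ⟨⟨⟨d, hd⟩, ?_⟩, Subtype.ext ed⟩
      show τ d = 1
      rw [e]
      show σ (q d) = 1
      rw [ed]
      exact a.2
  exact ⟨D, inferInstance, inferInstance, τD, ⟨hDs, hDc, by rw [hD]; exact le_top⟩,
    hsur σ₁ q₁ hq₁ (perfect_of_stem hG h₁) rfl, hsur σ₂ q₂ hq₂ (perfect_of_stem hG h₂) hτ₂⟩

/-- A perfect group whose stem extensions have kernels of order at most a prime `p`, one of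
them of order divisible by `p`, has multiplier of order `p`. -/
theorem hasCyclicSchurMultiplier_of_prime_bound (hG : commutator G = ⊤) {p : ℕ} (hp : p.Prime)
    {Δ₀ : Type u} [Group Δ₀] [Finite Δ₀] (σ₀ : Δ₀ →* G) (h₀ : IsStemExtension σ₀)
    (hcard : p ∣ Nat.card σ₀.ker)
    (bound : ∀ (Δ : Type u) [Group Δ] [Finite Δ] (σ : Δ →* G), IsStemExtension σ →
      Nat.card σ.ker ≤ p) : HasCyclicSchurMultiplier G p := by
  have hdvd : ∀ (Δ : Type u) [Group Δ] [Finite Δ] (σ : Δ →* G), IsStemExtension σ →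
      Nat.card σ.ker ∣ p := by
    intro Δ _ _ σ hσ
    obtain ⟨D, _, _, τ, hτ, h1, h2⟩ := exists_dominating hG h₀ hσ
    have hle : Nat.card τ.ker = p := le_antisymm (bound D τ hτ)
      (Nat.le_of_dvd Nat.card_pos (hcard.trans h1))
    rwa [hle] at h2
  refine hasCyclicSchurMultiplier_of_cyclic σ₀ h₀ (Nat.dvd_antisymm (hdvd Δ₀ σ₀ h₀) hcard)
    fun Δ _ _ σ hσ => ?_
  haveI := Fact.mk hp
  rcases (Nat.dvd_prime hp).1 (hdvd Δ σ hσ) with e | e
  · haveI : Subsingleton σ.ker := (Nat.card_eq_one_iff_unique.1 e).1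
    exact ⟨1, one_pow p, fun k => Subsingleton.elim 1 k ▸ one_mem _⟩
  · haveI : IsCyclic σ.ker := isCyclic_of_prime_card e
    obtain ⟨g, hg⟩ := IsCyclic.exists_generator (α := σ.ker)
    exact ⟨g, by rw [← e]; exact pow_card_eq_one', hg⟩

end CfsgLib.StemExt
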