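import Mathlib
import Cfsg.Prelude.Def_KGroupFacts
import Cfsg.Agent.Lib.StemExt.Basic

/-!
Central extensions of abelian groups given by bilinear cocycles, and consequences for stem extensions.
-/

namespace CfsgLib.StemExt

open Cfsg
open scoped commutatorElement

set_option linter.style.haveILetI false

universe u w

variable {A : Type u} {C : Type w} [CommGroup A] [AddCommGroup C]

/-- The extension of `A` by `C` with cocycle a biadditive map `β`. -/
@[ext]
structure BilExt (β : Additive A →+ Additive A →+ C) where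
  c : C
  a : A

namespace BilExt

variable {β : Additive A →+ Additive A →+ C}

instance : Mul (BilExt β) :=
  ⟨fun x y => ⟨x.c + y.c + β (Additive.ofMul x.a) (Additive.ofMul y.a), x.a * y.a⟩⟩

instance : One (BilExt β) := ⟨⟨0, 1⟩⟩

instance : Inv (BilExt β) :=
  ⟨fun x => ⟨-x.c + β (Additive.ofMul x.a) (Additive.ofMul x.a), x.a⁻¹⟩⟩

theorem mul_c (x y : BilExt β) :
    (x * y).c = x.c + y.c + β (Additive.ofMul x.a) (Additive.ofMul y.a) := rfl

@[simp] theorem mul_a (x y : BilExt β) : (x * y).a = x.a * y.a := rfl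
@[simp] theorem one_c : (1 : BilExt β).c = 0 := rfl
@[simp] theorem one_a : (1 : BilExt β).a = 1 := rfl
theorem inv_c (x : BilExt β) : x⁻¹.c = -x.c + β (Additive.ofMul x.a) (Additive.ofMul x.a) := rfl
@[simp] theorem inv_a (x : BilExt β) : x⁻¹.a = x.a⁻¹ := rfl

instance : Group (BilExt β) where
  mul_assoc x y z := by
    ext
    · simp only [mul_c, mul_a, ofMul_mul, map_add, AddMonoidHom.add_apply]; abel
    · simp [mul_assoc]
  one_mul x := by ext <;> simp [mul_c]
  mul_one x := by ext <;> simp [mul_c]
  inv_mul_cancel x := by ext <;> simp [mul_c, inv_c]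

/-- The projection to `A`. -/
def proj (β : Additive A →+ Additive A →+ C) : BilExt β →* A where
  toFun x := x.a
  map_one' := rfl
  map_mul' _ _ := rfl

theorem proj_surjective : Function.Surjective (proj β) := fun a => ⟨⟨0, a⟩, rfl⟩

theorem mem_ker_proj {x : BilExt β} : x ∈ (proj β).ker ↔ x.a = 1 := Iff.rfl

theorem ker_proj_le_center : (proj β).ker ≤ Subgroup.center (BilExt β) := by
  intro x hx
  rw [mem_ker_proj] at hx
  rw [Subgroup.mem_center_iff]
  intro y
  ext
  · simp only [mul_c, hx, ofMul_one, map_zero, AddMonoidHom.zero_apply, add_zero]; abel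
  · simp [hx]

/-- The kernel of the projection is `C`. -/
def kerEquiv : (proj β).ker ≃ C where
  toFun x := x.1.c
  invFun c := ⟨⟨c, 1⟩, rfl⟩
  left_inv x := Subtype.ext (BilExt.ext rfl (mem_ker_proj.mp x.2).symm)
  right_inv _ := rfl

theorem card_ker_proj : Nat.card (proj β).ker = Nat.card C := Nat.card_congr kerEquiv

instance [Finite A] [Finite C] : Finite (BilExt β) :=
  Finite.of_injective (fun x => (x.c, x.a)) fun x y h => by
    ext
    · exact congrArg Prod.fst h
    · exact congrArg Prod.snd h

theorem commutatorElement_eq (x y : BilExt β) :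
    ⁅x, y⁆ = ⟨β (Additive.ofMul x.a) (Additive.ofMul y.a) -
      β (Additive.ofMul y.a) (Additive.ofMul x.a), 1⟩ := by
  rw [commutatorElement_def, mul_inv_eq_iff_eq_mul, mul_inv_eq_iff_eq_mul]
  ext
  · simp only [mul_c, mul_a, one_mul, ofMul_one, map_zero, AddMonoidHom.zero_apply]; abel
  · simp [mul_comm]

theorem nsmul_mem_commutator (a b : A) (k : ℕ) :
    (⟨k • (β (Additive.ofMul a) (Additive.ofMul b) - β (Additive.ofMul b) (Additive.ofMul a)), 1⟩ :
      BilExt β) ∈ commutator (BilExt β) := by
  induction k with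
  | zero => rw [zero_smul]; exact Subgroup.one_mem _
  | succ k ih =>
    have h : ⁅(⟨0, a⟩ : BilExt β), (⟨0, b⟩ : BilExt β)⁆ ∈ commutator (BilExt β) :=
      Subgroup.commutator_mem_commutator (Subgroup.mem_top _) (Subgroup.mem_top _)
    rw [commutatorElement_eq] at h
    have := Subgroup.mul_mem _ ih h
    convert this using 1
    ext
    · simp [mul_c, succ_nsmul]
    · simp

theorem isStemExtension_proj {n : ℕ} [NeZero n] {γ : Additive A →+ Additive A →+ ZMod n} (a b : A)
    (h : γ (Additive.ofMul a) (Additive.ofMul b) - γ (Additive.ofMul b) (Additive.ofMul a) = 1) :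
    IsStemExtension (proj γ) := by
  refine ⟨proj_surjective, ker_proj_le_center, fun x hx => ?_⟩
  rw [mem_ker_proj] at hx
  have := nsmul_mem_commutator (β := γ) a b x.c.val
  rw [h, nsmul_one, ZMod.natCast_zmod_val] at this
  convert this using 1
  ext
  · rfl
  · exact hx

end BilExt

/-- The biadditive map `(a, b) ↦ f a * g b`. -/
def prodForm {n : ℕ} (f g : Additive A →+ ZMod n) : Additive A →+ Additive A →+ ZMod n :=
  (((AddMonoidHom.mul : ZMod n →+ ZMod n →+ ZMod n).comp f).flip.comp g).flip

theorem prodForm_apply {n : ℕ} (f g : Additive A →+ ZMod n) (a b : Additive A) :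
    prodForm f g a b = f a * g b := rfl

/-- A finite abelian group that is not cyclic maps onto an elementary abelian group of rank two. -/
theorem exists_two_forms_of_not_isCyclic (G : Type u) [CommGroup G] [Finite G] (h : ¬ IsCyclic G) :
    ∃ (p : ℕ) (_ : p.Prime) (f g : Additive G →+ ZMod p) (a b : G),
      f (Additive.ofMul a) = 1 ∧ f (Additive.ofMul b) = 0 ∧
      g (Additive.ofMul a) = 0 ∧ g (Additive.ofMul b) = 1 := by
  obtain ⟨ι, hι, n, hn, ⟨e⟩⟩ := CommGroup.equiv_prod_multiplicative_zmod_of_finite G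
  classical
  by_cases hcop : Pairwise (Function.onFun Nat.Coprime n)
  · exfalso
    apply h
    let e' : Multiplicative (ZMod (∏ i, n i)) ≃* G :=
      ((AddEquiv.toMultiplicative (ZMod.prodEquivPi n hcop).toAddEquiv).trans
        (MulEquiv.piMultiplicative _)).trans e.symm
    exact isCyclic_of_surjective e'.toMonoidHom e'.surjective
  · simp only [Pairwise, not_forall, Function.onFun] at hcop
    obtain ⟨i, j, hij, hc⟩ := hcop
    obtain ⟨p, hp, hpi, hpj⟩ := Nat.Prime.not_coprime_iff_dvd.mp hc
    let F : ∀ k, p ∣ n k → Additive G →+ ZMod p := fun k hk =>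
      (ZMod.castHom hk (ZMod p)).toAddMonoidHom.comp
        { toFun := fun x => Multiplicative.toAdd (e (Additive.toMul x) k)
          map_zero' := by simp
          map_add' := fun x y => by simp }
    refine ⟨p, hp, F i hpi, F j hpj, e.symm (Pi.mulSingle i (Multiplicative.ofAdd 1)),
      e.symm (Pi.mulSingle j (Multiplicative.ofAdd 1)), ?_, ?_, ?_, ?_⟩
    · show ZMod.castHom hpi (ZMod p) (Multiplicative.toAdd _) = 1
      simp only [toMul_ofMul, MulEquiv.apply_symm_apply, Pi.mulSingle_eq_same, toAdd_ofAdd, map_one]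
    · show ZMod.castHom hpi (ZMod p) (Multiplicative.toAdd _) = 0
      simp only [toMul_ofMul, MulEquiv.apply_symm_apply, Pi.mulSingle_eq_of_ne hij, toAdd_one,
        map_zero]
    · show ZMod.castHom hpj (ZMod p) (Multiplicative.toAdd _) = 0
      simp only [toMul_ofMul, MulEquiv.apply_symm_apply, Pi.mulSingle_eq_of_ne hij.symm, toAdd_one,
        map_zero]
    · show ZMod.castHom hpj (ZMod p) (Multiplicative.toAdd _) = 1
      simp only [toMul_ofMul, MulEquiv.apply_symm_apply, Pi.mulSingle_eq_same, toAdd_ofAdd, map_one]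

/-- In a stem extension of an abelian group that is generated by two elements `a`, `b`, the kernel is
generated by one element killed by the order of `b`. -/
theorem ker_cyclic_of_two_generated {Γ : Type*} [Group Γ] {G : Type u} [CommGroup G] {σ : Γ →* G}
    (hσ : IsStemExtension σ) (a b : G) (hgen : Subgroup.closure {a, b} = ⊤) {n : ℕ}
    (hb : b ^ n = 1) : ∃ g : σ.ker, g ^ n = 1 ∧ ∀ k : σ.ker, k ∈ Subgroup.zpowers g := by
  obtain ⟨hsurj, hker, hstem⟩ := hσ
  obtain ⟨x, rfl⟩ := hsurj a
  obtain ⟨y, rfl⟩ := hsurj b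
  set c := x * y * x⁻¹ * y⁻¹ with hc
  have hck : c ∈ σ.ker := by
    rw [MonoidHom.mem_ker, hc]; simp [mul_comm (σ x)]
  have hcc : ∀ g : Γ, g * c = c * g := Subgroup.mem_center_iff.mp (hker hck)
  have hN : (Subgroup.zpowers c).Normal := by
    refine ⟨fun k hk g => ?_⟩
    have hk' : k ∈ σ.ker := (Subgroup.zpowers_le.mpr hck) hk
    rw [Subgroup.mem_center_iff.mp (hker hk') g, mul_inv_cancel_right]
    exact hk
  have hle := commutator_le_of_generators (N := Subgroup.zpowers c) hker x y
    (closure_lift_sup_ker σ x y hgen) (Subgroup.mem_zpowers c)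
  have hcn : c ^ n = 1 := by
    have hxy : x * y * x⁻¹ = c * y := by rw [hc]; group
    have h1 : x * y ^ n * x⁻¹ = c ^ n * y ^ n := by
      rw [← conj_pow, hxy]
      exact (show Commute c y from (hcc y).symm).mul_pow n
    have hyn : y ^ n ∈ σ.ker := by rw [MonoidHom.mem_ker, map_pow, hb]
    rw [Subgroup.mem_center_iff.mp (hker hyn) x, mul_inv_cancel_right] at h1
    simpa using h1
  refine ⟨⟨c, hck⟩, Subtype.ext (by simpa using hcn), fun k => ?_⟩
  obtain ⟨m, hm⟩ := Subgroup.mem_zpowers_iff.mp (hle (hstem k.2))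
  exact ⟨m, Subtype.ext (by simpa using hm)⟩

end CfsgLib.StemExt
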